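import Groth.Prelude.Def_FibCat2
import Mathlib.CategoryTheory.Sites.InducedTopology
import Mathlib.CategoryTheory.Sites.Over

/-!
# The topology inherited by a category fibred in groupoids
-/

set_option autoImplicit false
set_option backward.isDefEq.respectTransparency false

universe w v₃ u₃ v₂ u₂ v u

open CategoryTheory Limits Opposite

namespace StkInh

variable {C : Type u} [Category.{v} C] {𝒳 : Type u₂} [Category.{v₂} 𝒳] {p : 𝒳 ⥤ C}

theorem isSC (hp : FibCat.IsFibGrpd p) {R S : C} (f : R ⟶ S) {a b : 𝒳} (φ : a ⟶ b)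
    [p.IsHomLift f φ] : p.IsStronglyCartesian f φ := by
  subst_hom_lift p f φ
  exact hp.isStronglyCartesian φ

theorem exists_lift (hp : FibCat.IsFibGrpd p) {x : 𝒳} {U V : C} (hx : p.obj x = U) (f : V ⟶ U) :
    ∃ (y : 𝒳) (φ : y ⟶ x), p.IsHomLift f φ := by
  subst hx; exact hp.exists_lift f

theorem exists_comparison (hp : FibCat.IsFibGrpd p) {V U : C} (h : V ⟶ U) {a a' b : 𝒳}
    (φ : a ⟶ b) (φ' : a' ⟶ b) [p.IsHomLift h φ] [p.IsHomLift h φ'] :
    ∃ i : a' ≅ a, p.IsHomLift (𝟙 V) i.hom ∧ i.hom ≫ φ = φ' := by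
  haveI := isSC hp h φ
  haveI := isSC hp h φ'
  exact ⟨Functor.IsCartesian.domainUniqueUpToIso p h φ φ', inferInstance,
    Functor.IsCartesian.fac p h φ φ'⟩

/-- membership in a sieve depends only on the image in the base -/
theorem sieve_mem_of_lift (hp : FibCat.IsFibGrpd p) {x : 𝒳} (S : Sieve x) {V U : C} (h : V ⟶ U)
    {a a' : 𝒳} (φ : a ⟶ x) (φ' : a' ⟶ x) [p.IsHomLift h φ] [p.IsHomLift h φ'] (hS : S φ) : S φ' := by
  obtain ⟨i, -, hi⟩ := exists_comparison hp h φ φ'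
  rw [← hi]
  exact S.downward_closed hS _

theorem mem_push_iff (hp : FibCat.IsFibGrpd p) {x : 𝒳} (S : Sieve x) {V : C} (h : V ⟶ p.obj x) :
    S.functorPushforward p h ↔ ∃ (z : 𝒳) (φ : z ⟶ x), p.IsHomLift h φ ∧ S φ := by
  constructor
  · rintro ⟨z, φ, g, hS, rfl⟩
    obtain ⟨y, χ, hχ⟩ := hp.exists_lift g
    exact ⟨y, χ ≫ φ, inferInstance, S.downward_closed hS χ⟩
  · rintro ⟨z, φ, hφ, hS⟩
    obtain rfl : p.obj z = V := IsHomLift.domain_eq p h φ
    obtain rfl : h = p.map φ := by simpa using IsHomLift.fac p h φ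
    exact ⟨z, φ, 𝟙 _, hS, (Category.id_comp _).symm⟩

theorem push_map_mem (hp : FibCat.IsFibGrpd p) {x z : 𝒳} (S : Sieve x) (φ : z ⟶ x) :
    S.functorPushforward p (p.map φ) ↔ S φ := by
  rw [mem_push_iff hp]
  constructor
  · rintro ⟨z', φ', hφ', hS⟩
    exact sieve_mem_of_lift hp S (p.map φ) φ' φ hS
  · intro hS; exact ⟨z, φ, inferInstance, hS⟩

theorem push_pullback (hp : FibCat.IsFibGrpd p) {x y : 𝒳} (S : Sieve x) (φ : y ⟶ x) :
    (S.pullback φ).functorPushforward p = (S.functorPushforward p).pullback (p.map φ) := by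
  ext V h
  rw [Sieve.pullback_apply, mem_push_iff hp, mem_push_iff hp]
  constructor
  · rintro ⟨z, ψ, hψ, hS⟩
    exact ⟨z, ψ ≫ φ, inferInstance, hS⟩
  · rintro ⟨z, ψ, hψ, hS⟩
    obtain ⟨z', ψ', hψ'⟩ := exists_lift hp (rfl : p.obj y = _) h
    exact ⟨z', ψ', hψ', sieve_mem_of_lift hp S (h ≫ p.map φ) ψ (ψ' ≫ φ) hS⟩

/-- the sieves whose image covers form a topology -/
def inherited (hp : FibCat.IsFibGrpd p) (J : GrothendieckTopology C) : GrothendieckTopology 𝒳 where
  sieves x := {S | S.functorPushforward p ∈ J (p.obj x)}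
  top_mem' x := by
    show (⊤ : Sieve x).functorPushforward p ∈ J (p.obj x)
    rw [Sieve.functorPushforward_top]
    exact J.top_mem _
  pullback_stable' x y S φ hS := by
    show (S.pullback φ).functorPushforward p ∈ J (p.obj y)
    rw [push_pullback hp]
    exact J.pullback_stable _ hS
  transitive' x S hS R hR := by
    refine J.transitive hS _ fun V h hh => ?_
    obtain ⟨z, φ, hφ, hzS⟩ := (mem_push_iff hp S h).mp hh
    obtain rfl : p.obj z = V := IsHomLift.domain_eq p h φ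
    obtain rfl : h = p.map φ := by simpa using IsHomLift.fac p h φ
    have := hR hzS
    rw [← push_pullback hp]
    exact this

theorem restrictedTopology_eq (hp : FibCat.IsFibGrpd p) (J : GrothendieckTopology C) :
    p.restrictedTopology J = inherited hp J := by
  apply le_antisymm
  · rw [Functor.restrictedTopology, Precoverage.toGrothendieck_le_iff_le_toPrecoverage]
    intro x R hR
    rw [GrothendieckTopology.mem_toPrecoverage_iff]
    show (Sieve.generate R).functorPushforward p ∈ J (p.obj x)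
    rw [← Sieve.generate_map_eq_functorPushforward]
    exact hR
  · intro x S hS
    exact Functor.mem_restrictedTopology_of_functorPushforward_mem hS

theorem mem_restrictedTopology_iff (hp : FibCat.IsFibGrpd p) (J : GrothendieckTopology C) {x : 𝒳}
    (S : Sieve x) : S ∈ p.restrictedTopology J x ↔ S.functorPushforward p ∈ J (p.obj x) := by
  rw [restrictedTopology_eq hp]; rfl

variable {ℬ : Type u₃} [Category.{v₃} ℬ] {q : ℬ ⥤ C}

theorem sieve_cast {U U' : C} (e : U = U') (J : GrothendieckTopology C) {A : Sieve U} {B : Sieve U'}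
    (h : ∀ ⦃V : C⦄ (k : V ⟶ U), A k → B (k ≫ eqToHom e)) (hA : A ∈ J U) : B ∈ J U' := by
  subst e
  exact J.superset_covering (fun V k hk => by simpa using h k hk) hA

theorem coverPreserving (hp : FibCat.IsFibGrpd p) (hq : FibCat.IsFibGrpd q) (J : GrothendieckTopology C)
    (F : 𝒳 ⥤ ℬ) (w : F ⋙ q = p) :
    CoverPreserving (p.restrictedTopology J) (q.restrictedTopology J) F where
  cover_preserve {x S} hS := by
    rw [mem_restrictedTopology_iff hq]
    rw [mem_restrictedTopology_iff hp] at hS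
    subst w
    rw [← Sieve.functorPushforward_comp]
    exact hS

theorem isCocontinuous (hp : FibCat.IsFibGrpd p) (hq : FibCat.IsFibGrpd q) (J : GrothendieckTopology C)
    (F : 𝒳 ⥤ ℬ) (w : F ⋙ q = p) :
    F.IsCocontinuous (p.restrictedTopology J) (q.restrictedTopology J) where
  cover_lift {x S} hS := by
    rw [mem_restrictedTopology_iff hq] at hS
    rw [mem_restrictedTopology_iff hp]
    subst w
    refine J.superset_covering (fun V h hh => ?_) hS
    obtain ⟨z, ψ, hψ, hzS⟩ := (mem_push_iff hq S h).mp hh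
    obtain ⟨a, φ, hφ⟩ := exists_lift hp (rfl : (F ⋙ q).obj x = _) h
    refine (mem_push_iff hp _ h).mpr ⟨a, φ, hφ, ?_⟩
    haveI : q.IsHomLift h (F.map φ) := by
      exact IsHomLift.of_fac q h (F.map φ) (IsHomLift.domain_eq (F ⋙ q) h φ) rfl
        (IsHomLift.fac (F ⋙ q) h φ)
    exact sieve_mem_of_lift hq S h ψ (F.map φ) hzS

theorem isContinuous (hp : FibCat.IsFibGrpd p) (hq : FibCat.IsFibGrpd q) (J : GrothendieckTopology C)
    (F : 𝒳 ⥤ ℬ) (w : F ⋙ q = p) :
    Functor.IsContinuous F (p.restrictedTopology J) (q.restrictedTopology J) := by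
  refine Functor.isContinuous_of_coverPreserving ⟨?_⟩ (coverPreserving hp hq J F w)
  intro ℱ Z T x hx Y₁ Y₂ X f₁ f₂ g₁ g₂ hg₁ hg₂ he
  subst w
  obtain ⟨A, χ₁, hχ₁⟩ := exists_lift hp (rfl : (F ⋙ q).obj Y₁ = _) (q.map f₁)
  obtain ⟨A', χ₂, hχ₂⟩ := exists_lift hp (rfl : (F ⋙ q).obj Y₂ = _) (q.map f₂)
  have hee : q.map f₁ ≫ (F ⋙ q).map g₁ = q.map f₂ ≫ (F ⋙ q).map g₂ := by
    rw [Functor.comp_map, Functor.comp_map, ← Functor.map_comp, ← Functor.map_comp, he]
  haveI h1 : (F ⋙ q).IsHomLift (q.map f₁ ≫ (F ⋙ q).map g₁) (χ₁ ≫ g₁) := inferInstance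
  haveI h2 : (F ⋙ q).IsHomLift (q.map f₁ ≫ (F ⋙ q).map g₁) (χ₂ ≫ g₂) := hee ▸ inferInstance
  obtain ⟨i, hi, hi'⟩ := exists_comparison hp (q.map f₁ ≫ (F ⋙ q).map g₁) (χ₂ ≫ g₂) (χ₁ ≫ g₁)
  have hc : χ₁ ≫ g₁ = (i.hom ≫ χ₂) ≫ g₂ := by rw [Category.assoc, hi']
  have hcompat := hx χ₁ (i.hom ≫ χ₂) hg₁ hg₂ hc
  haveI a1 : q.IsHomLift (q.map f₁) (F.map χ₁) := by
    have := hχ₁
    exact IsHomLift.of_fac q (q.map f₁) (F.map χ₁) (IsHomLift.domain_eq (F ⋙ q) (q.map f₁) χ₁) rfl
      (IsHomLift.fac (F ⋙ q) (q.map f₁) χ₁)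
  haveI : (F ⋙ q).IsHomLift (q.map f₂) (i.hom ≫ χ₂) := inferInstance
  haveI a2 : q.IsHomLift (q.map f₂) (F.map (i.hom ≫ χ₂)) :=
    IsHomLift.of_fac q (q.map f₂) _ (IsHomLift.domain_eq (F ⋙ q) (q.map f₂) (i.hom ≫ χ₂)) rfl
      (IsHomLift.fac (F ⋙ q) (q.map f₂) (i.hom ≫ χ₂))
  obtain ⟨j, hj, hj'⟩ := exists_comparison hq (q.map f₁) (F.map χ₁) f₁
  obtain ⟨j', hj2, hj2'⟩ := exists_comparison hq (q.map f₂) (F.map (i.hom ≫ χ₂)) f₂
  have hjj : j.hom = j'.hom := by
    haveI : q.IsHomLift (q.map f₁ ≫ (F ⋙ q).map g₁) (F.map (χ₁ ≫ g₁)) := by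
      rw [F.map_comp]; exact inferInstanceAs (q.IsHomLift (q.map f₁ ≫ q.map (F.map g₁)) _)
    haveI := isSC hq (q.map f₁ ≫ (F ⋙ q).map g₁) (F.map (χ₁ ≫ g₁))
    apply Functor.IsCartesian.ext q (q.map f₁ ≫ (F ⋙ q).map g₁) (F.map (χ₁ ≫ g₁))
    rw [F.map_comp, ← Category.assoc, hj', he, ← hj2', Category.assoc, ← F.map_comp, ← F.map_comp, hc, F.map_comp]
  rw [← hj', ← hj2', op_comp, op_comp, Functor.map_comp, Functor.map_comp, hjj]
  exact congrArg (ℱ.obj.map j'.hom.op) hcompat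

end StkInh

namespace StkInh

variable {C : Type u} [Category.{v} C] {𝒳 : Type u₂} [Category.{v₂} 𝒳] {p : 𝒳 ⥤ C}

theorem post_isEquivalence (hp : FibCat.IsFibGrpd p) (x : 𝒳) :
    (Over.post p : Over x ⥤ Over (p.obj x)).IsEquivalence := by
  haveI hF : (Over.post p : Over x ⥤ Over (p.obj x)).Faithful := by
    refine ⟨fun {a b} g₁ g₂ h => ?_⟩
    apply Over.OverMorphism.ext
    have hl : p.map g₁.left = p.map g₂.left := congrArg CommaMorphism.left h
    haveI := hp.isStronglyCartesian b.hom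
    haveI : p.IsHomLift (p.map g₁.left) g₂.left := hl ▸ inferInstance
    exact Functor.IsStronglyCartesian.ext p (p.map b.hom) b.hom (p.map g₁.left)
      ((Over.w g₁).trans (Over.w g₂).symm)
  haveI hFu : (Over.post p : Over x ⥤ Over (p.obj x)).Full := by
    refine ⟨fun {a b} g => ?_⟩
    haveI := hp.isStronglyCartesian b.hom
    have hw : g.left ≫ p.map b.hom = p.map a.hom := Over.w g
    obtain ⟨χ, ⟨hχ, hχ'⟩, -⟩ := Functor.IsStronglyCartesian.universal_property p (p.map b.hom) b.hom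
      g.left (p.map a.hom) hw.symm a.hom
    refine ⟨Over.homMk χ hχ', Over.OverMorphism.ext ?_⟩
    exact (IsHomLift.eq_of_isHomLift p g.left χ).symm
  haveI : (Over.post p : Over x ⥤ Over (p.obj x)).EssSurj := by
    refine ⟨fun a => ?_⟩
    obtain ⟨y, φ, hφ⟩ := hp.exists_lift a.hom
    have hd : p.obj y = a.left := IsHomLift.domain_eq p a.hom φ
    exact ⟨Over.mk φ, ⟨Over.isoMk (eqToIso hd)
      (by change eqToHom hd ≫ a.hom = p.map φ; rw [IsHomLift.fac' p a.hom φ]; simp)⟩⟩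
  exact {}

theorem over_mem_iff (hp : FibCat.IsFibGrpd p) (J : GrothendieckTopology C) (x : 𝒳) (a : Over x)
    (S : Sieve a) : S ∈ (p.restrictedTopology J).over x a ↔
      S.functorPushforward (Over.post p) ∈ (J.over (p.obj x)) ((Over.post p).obj a) := by
  rw [GrothendieckTopology.mem_over_iff, GrothendieckTopology.mem_over_iff, mem_restrictedTopology_iff hp]
  show (S.functorPushforward (Over.forget x)).functorPushforward p ∈ _ ↔
    (S.functorPushforward (Over.post p)).functorPushforward (Over.forget _) ∈ _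
  rw [← Sieve.functorPushforward_comp, ← Sieve.functorPushforward_comp]
  rfl

end StkInh
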