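import Groth.Prelude.Def_AlgSt
import Groth.Agent.StkInh.Top
import Groth.Agent.Fib.Comp
import Groth.Agent.Fib.Basic
import Groth.Agent.AlgStB.Descent

/-!
# Stacks over a stack, for the inherited topology
-/

set_option autoImplicit false
set_option backward.isDefEq.respectTransparency false
set_option backward.isDefEq.respectTransparency.types false

universe v₃ u₃ v₂ u₂ v u

open CategoryTheory Functor

namespace StkInh

open Groth.Agent

variable {C : Type u} [Category.{v} C] {𝒴 : Type u₂} [Category.{v₂} 𝒴] {p : 𝒴 ⥤ C}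
  {𝒲 : Type u₃} [Category.{v₃} 𝒲] {q : 𝒲 ⥤ 𝒴}

abbrev Yc (p : 𝒴 ⥤ C) : BasedCategory.{v₂, u₂} C := BasedCategory.ofFunctor p

abbrev Wc (q : 𝒲 ⥤ 𝒴) (p : 𝒴 ⥤ C) : BasedCategory.{v₃, u₃} C := BasedCategory.ofFunctor (q ⋙ p)

abbrev Wy (q : 𝒲 ⥤ 𝒴) : BasedCategory.{v₃, u₃} 𝒴 := BasedCategory.ofFunctor q

def qb (q : 𝒲 ⥤ 𝒴) (p : 𝒴 ⥤ C) : Wc q p ⥤ᵇ Yc p where
  toFunctor := q
  w := rfl

/-- In a category fibred in groupoids natural isomorphisms can be rectified to equalities. -/
theorem rectify (hq : FibCat.IsFibGrpd q) {A : Type*} [Category A] (P : A ⥤ 𝒴) (T : A ⥤ 𝒲)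
    (i : ∀ a, q.obj (T.obj a) ≅ P.obj a)
    (nat : ∀ {a b : A} (g : a ⟶ b), q.map (T.map g) ≫ (i b).hom = (i a).hom ≫ P.map g) :
    ∃ (T' : A ⥤ 𝒲) (_ : T' ⋙ q = P) (j : ∀ a, T'.obj a ≅ T.obj a),
      (∀ {a b : A} (g : a ⟶ b), T'.map g ≫ (j b).hom = (j a).hom ≫ T.map g) ∧
      ∀ a, q.IsHomLift (i a).inv (j a).hom := by
  have hx : ∀ a, ∃ (x : 𝒲) (e : x ≅ T.obj a), q.IsHomLift (i a).inv e.hom := by
    intro a
    obtain ⟨x, φ, hφ⟩ := Fib.exists_lift q hq (rfl : q.obj (T.obj a) = _) (i a).inv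
    haveI := Fib.isIso_of_isHomLift q hq (i a).inv φ
    exact ⟨x, asIso φ, hφ⟩
  choose x e he using hx
  have hobj : ∀ a, q.obj (x a) = P.obj a := fun a => by
    haveI := he a
    exact IsHomLift.domain_eq q (i a).inv (e a).hom
  let T' : A ⥤ 𝒲 :=
    { obj := x
      map := fun {a b} g => (e a).hom ≫ T.map g ≫ (e b).inv
      map_id := fun a => by simp
      map_comp := fun f g => by simp }
  have hmap : ∀ {a b : A} (g : a ⟶ b), q.IsHomLift (P.map g) (T'.map g) := by
    intro a b g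
    haveI := he a
    haveI := he b
    haveI : q.IsHomLift (i b).hom (e b).inv := by
      haveI : q.IsHomLift (i b).symm.hom (e b).hom := he b
      exact IsHomLift.inv_lift_inv q (i b).symm (e b)
    have h : q.IsHomLift ((i a).inv ≫ q.map (T.map g) ≫ (i b).hom) (T'.map g) :=
      inferInstanceAs (q.IsHomLift ((i a).inv ≫ q.map (T.map g) ≫ (i b).hom)
        ((e a).hom ≫ T.map g ≫ (e b).inv))
    rw [nat g, Iso.inv_hom_id_assoc] at h
    exact h
  refine ⟨T', CategoryTheory.Functor.ext hobj (fun a b g => ?_), e, fun g => by simp [T'], he⟩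
  haveI := hmap g
  exact IsHomLift.fac' q (P.map g) (T'.map g)

/-- morphisms of a category over `𝒴` lying over identities, from morphisms over `C` -/
theorem lift_id_of_map {a b : 𝒲} {z : 𝒴} (φ : a ⟶ b) (ha : q.obj a = z) (hb : q.obj b = z)
    (h : q.map φ = eqToHom (ha.trans hb.symm)) : q.IsHomLift (𝟙 z) φ := by
  apply IsHomLift.of_fac q _ _ ha hb
  rw [h]; simp

section Slice

variable (y : 𝒴) {U : C} (hy : p.obj y = U)

/-- the comparison functor to the slice of the base -/
def post : Over y ⥤ Over U where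
  obj b := Over.mk (p.map b.hom ≫ eqToHom hy)
  map {a b} g := Over.homMk (p.map g.left) (by
    change p.map g.left ≫ p.map b.hom ≫ eqToHom hy = p.map a.hom ≫ eqToHom hy
    rw [← Category.assoc, ← CategoryTheory.Functor.map_comp, Over.w g])
  map_id a := by apply Over.OverMorphism.ext; exact p.map_id _
  map_comp f g := by apply Over.OverMorphism.ext; exact p.map_comp _ _

theorem lift_post (b : Over y) : p.IsHomLift (p.map b.hom ≫ eqToHom hy) b.hom := by
  subst hy; simpa using (inferInstance : p.IsHomLift (p.map b.hom) b.hom)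

variable (hp : FibCat.IsFibGrpd p)

noncomputable def lz (a : Over U) : 𝒴 := (Fib.exists_lift p hp hy a.hom).choose

noncomputable def lφ (a : Over U) : lz y hy hp a ⟶ y :=
  (Fib.exists_lift p hp hy a.hom).choose_spec.choose

theorem lφ_lift (a : Over U) : p.IsHomLift a.hom (lφ y hy hp a) :=
  (Fib.exists_lift p hp hy a.hom).choose_spec.choose_spec

theorem lz_proj (a : Over U) : p.obj (lz y hy hp a) = a.left :=
  @IsHomLift.domain_eq _ _ _ _ p _ _ _ _ a.hom (lφ y hy hp a) (lφ_lift y hy hp a)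

theorem p_lφ (a : Over U) :
    p.map (lφ y hy hp a) ≫ eqToHom hy = eqToHom (lz_proj y hy hp a) ≫ a.hom := by
  haveI := lφ_lift y hy hp a
  rw [IsHomLift.fac' p a.hom (lφ y hy hp a)]
  simp

theorem sc_lφ (a : Over U) : p.IsStronglyCartesian a.hom (lφ y hy hp a) :=
  haveI := lφ_lift y hy hp a
  isSC hp a.hom (lφ y hy hp a)

theorem ext_lφ {a : Over U} {w : 𝒴} {V : C} (g : V ⟶ a.left) (u v : w ⟶ lz y hy hp a)
    [p.IsHomLift g u] [p.IsHomLift g v] (h : u ≫ lφ y hy hp a = v ≫ lφ y hy hp a) : u = v :=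
  haveI := sc_lφ y hy hp a
  IsStronglyCartesian.ext p a.hom (lφ y hy hp a) g h

noncomputable def lmap {a b : Over U} (g : a ⟶ b) : lz y hy hp a ⟶ lz y hy hp b :=
  haveI := lφ_lift y hy hp a
  haveI := sc_lφ y hy hp b
  IsStronglyCartesian.map p b.hom (lφ y hy hp b) (g := g.left) (f' := a.hom) (Over.w g).symm
    (lφ y hy hp a)

theorem lmap_lift {a b : Over U} (g : a ⟶ b) : p.IsHomLift g.left (lmap y hy hp g) :=
  haveI := lφ_lift y hy hp a
  haveI := sc_lφ y hy hp b
  IsStronglyCartesian.map_isHomLift p b.hom (lφ y hy hp b) (g := g.left) (f' := a.hom) (Over.w g).symm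
    (lφ y hy hp a)

theorem lmap_fac {a b : Over U} (g : a ⟶ b) : lmap y hy hp g ≫ lφ y hy hp b = lφ y hy hp a :=
  haveI := lφ_lift y hy hp a
  haveI := sc_lφ y hy hp b
  IsStronglyCartesian.fac p b.hom (lφ y hy hp b) (g := g.left) (f' := a.hom) (Over.w g).symm
    (lφ y hy hp a)

/-- the strict inverse of `post` -/
noncomputable def sect : Over U ⥤ Over y where
  obj a := Over.mk (lφ y hy hp a)
  map {a b} g := Over.homMk (lmap y hy hp g) (lmap_fac y hy hp g)
  map_id a := by
    apply Over.OverMorphism.ext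
    haveI : p.IsHomLift (𝟙 a.left) (lmap y hy hp (𝟙 a)) := lmap_lift y hy hp (𝟙 a)
    haveI : p.IsHomLift (𝟙 a.left) (𝟙 (lz y hy hp a)) := IsHomLift.id (lz_proj y hy hp a)
    exact ext_lφ y hy hp (𝟙 a.left) (lmap y hy hp (𝟙 a)) (𝟙 _)
      ((lmap_fac y hy hp (𝟙 a)).trans (Category.id_comp _).symm)
  map_comp {a b d} f g := by
    apply Over.OverMorphism.ext
    haveI : p.IsHomLift (f.left ≫ g.left) (lmap y hy hp (f ≫ g)) := lmap_lift y hy hp (f ≫ g)
    haveI := lmap_lift y hy hp f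
    haveI := lmap_lift y hy hp g
    refine ext_lφ y hy hp (f.left ≫ g.left) (lmap y hy hp (f ≫ g)) (lmap y hy hp f ≫ lmap y hy hp g) ?_
    rw [Category.assoc, lmap_fac, lmap_fac, lmap_fac]

theorem sect_w : (sect y hy hp ⋙ Over.forget y) ⋙ p = Over.forget U :=
  CategoryTheory.Functor.ext (lz_proj y hy hp) fun a b g => by
    haveI := lmap_lift y hy hp g
    exact IsHomLift.fac' p g.left (lmap y hy hp g)

/-- `post ∘ sect ≅ id` -/
noncomputable def eIso (a : Over U) : (post y hy).obj ((sect y hy hp).obj a) ≅ a :=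
  Over.isoMk (eqToIso (lz_proj y hy hp a)) (p_lφ y hy hp a).symm

theorem eIso_nat {a b : Over U} (g : a ⟶ b) :
    (post y hy).map ((sect y hy hp).map g) ≫ (eIso y hy hp b).hom = (eIso y hy hp a).hom ≫ g := by
  apply Over.OverMorphism.ext
  change p.map (lmap y hy hp g) ≫ eqToHom (lz_proj y hy hp b) = eqToHom (lz_proj y hy hp a) ≫ g.left
  haveI := lmap_lift y hy hp g
  rw [IsHomLift.fac' p g.left (lmap y hy hp g)]
  simp

theorem eIso_lift (a : Over U) :
    (FibCat.overCat U).p.IsHomLift (𝟙 a.left) (eIso y hy hp a).hom :=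
  IsHomLift.of_fac _ _ _ (lz_proj y hy hp a) rfl (by
    change 𝟙 _ = eqToHom _ ≫ eqToHom (lz_proj y hy hp a) ≫ eqToHom _
    simp)

theorem exists_cIso (b : Over y) : ∃ c : lz y hy hp ((post y hy).obj b) ≅ b.left,
    p.IsHomLift (𝟙 (p.obj b.left)) c.hom ∧ c.hom ≫ b.hom = lφ y hy hp ((post y hy).obj b) := by
  haveI := lift_post y hy b
  haveI : p.IsHomLift (p.map b.hom ≫ eqToHom hy) (lφ y hy hp ((post y hy).obj b)) :=
    lφ_lift y hy hp ((post y hy).obj b)
  exact exists_comparison hp (p.map b.hom ≫ eqToHom hy) b.hom (lφ y hy hp ((post y hy).obj b))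

/-- `sect ∘ post ≅ id` -/
noncomputable def cIso (b : Over y) : (sect y hy hp).obj ((post y hy).obj b) ≅ b :=
  Over.isoMk (exists_cIso y hy hp b).choose (exists_cIso y hy hp b).choose_spec.2

theorem cIso_lift (b : Over y) : p.IsHomLift (𝟙 (p.obj b.left)) (cIso y hy hp b).hom.left :=
  (exists_cIso y hy hp b).choose_spec.1

theorem cIso_nat {b b' : Over y} (g : b ⟶ b') :
    (sect y hy hp).map ((post y hy).map g) ≫ (cIso y hy hp b').hom = (cIso y hy hp b).hom ≫ g := by
  apply Over.OverMorphism.ext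
  haveI := lift_post y hy b'
  haveI := isSC hp (p.map b'.hom ≫ eqToHom hy) b'.hom
  haveI := cIso_lift y hy hp b
  haveI := cIso_lift y hy hp b'
  haveI : p.IsHomLift (p.map g.left) (lmap y hy hp ((post y hy).map g)) :=
    lmap_lift y hy hp ((post y hy).map g)
  haveI : p.IsHomLift (p.map g.left)
      (lmap y hy hp ((post y hy).map g) ≫ (cIso y hy hp b').hom.left) :=
    IsHomLift.comp_lift_id_right' p (p.map g.left) _ (p.obj b'.left) _
  haveI : p.IsHomLift (p.map g.left) ((cIso y hy hp b).hom.left ≫ g.left) :=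
    IsHomLift.comp_lift_id_left' p (p.obj b.left) _ (p.map g.left) g.left
  change lmap y hy hp ((post y hy).map g) ≫ (cIso y hy hp b').hom.left =
    (cIso y hy hp b).hom.left ≫ g.left
  refine IsStronglyCartesian.ext p (p.map b'.hom ≫ eqToHom hy) b'.hom (p.map g.left) ?_
  change (lmap y hy hp ((post y hy).map g) ≫ (cIso y hy hp b').hom.left) ≫ b'.hom =
    ((cIso y hy hp b).hom.left ≫ g.left) ≫ b'.hom
  rw [Category.assoc, Category.assoc, Over.w g, Over.w (cIso y hy hp b').hom,
    Over.w (cIso y hy hp b).hom]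
  exact lmap_fac y hy hp ((post y hy).map g)

/-- the slice of the base, mapped to `𝒴` -/
noncomputable def Lb : FibCat.overCat U ⥤ᵇ Yc p where
  toFunctor := sect y hy hp ⋙ Over.forget y
  w := sect_w y hy hp

/-- functors over `𝒴` on the slice of `𝒴` give functors over `C` on the slice of `C` -/
noncomputable def toC (G : FibCat.overCat y ⥤ᵇ Wy q) : FibCat.overCat U ⥤ᵇ Wc q p where
  toFunctor := sect y hy hp ⋙ G.toFunctor
  w := by
    change (sect y hy hp ⋙ G.toFunctor ⋙ q) ⋙ p = _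
    rw [show G.toFunctor ⋙ q = Over.forget y from G.w]
    exact sect_w y hy hp

variable (R : Sieve y) (R' : Sieve U)

/-- `post` on sieves -/
def postR (hR : ∀ b : Over y, R b.hom ↔ R' (p.map b.hom ≫ eqToHom hy)) :
    (Stk.sieveCat R).obj ⥤ (Stk.sieveCat R').obj :=
  ObjectProperty.lift _ (ObjectProperty.ι _ ⋙ post y hy) fun b => (hR b.obj).1 b.property

theorem sect_mem (hR : ∀ b : Over y, R b.hom ↔ R' (p.map b.hom ≫ eqToHom hy)) (a : Over U)
    (ha : R' a.hom) : R ((sect y hy hp).obj a).hom := by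
  rw [hR]
  change R' (p.map (lφ y hy hp a) ≫ eqToHom hy)
  rw [p_lφ]
  exact R'.downward_closed ha _

/-- `sect` on sieves -/
noncomputable def sectR (hR : ∀ b : Over y, R b.hom ↔ R' (p.map b.hom ≫ eqToHom hy)) :
    (Stk.sieveCat R').obj ⥤ (Stk.sieveCat R).obj :=
  ObjectProperty.lift _ (ObjectProperty.ι _ ⋙ sect y hy hp) fun a => sect_mem y hy hp R R' hR a.obj a.property

/-- functors over `𝒴` on a sieve give functors over `C` on the image sieve -/
noncomputable def toCR (hR : ∀ b : Over y, R b.hom ↔ R' (p.map b.hom ≫ eqToHom hy))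
    (D : Stk.sieveCat R ⥤ᵇ Wy q) : Stk.sieveCat R' ⥤ᵇ Wc q p where
  toFunctor := sectR y hy hp R R' hR ⋙ D.toFunctor
  w := by
    change (sectR y hy hp R R' hR ⋙ D.toFunctor ⋙ q) ⋙ p = _
    rw [show D.toFunctor ⋙ q = _ from D.w]
    change ObjectProperty.ι _ ⋙ ((sect y hy hp ⋙ Over.forget y) ⋙ p) = _
    rw [sect_w]
    rfl

end Slice

theorem liftC {R S : 𝒴} {V V' : C} {a b : 𝒲} (f : R ⟶ S) (g : V ⟶ V') (φ : a ⟶ b)
    [q.IsHomLift f φ] [p.IsHomLift g f] : (q ⋙ p).IsHomLift g φ := by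
  have h₁ : q.obj a = R := IsHomLift.domain_eq q f φ
  have h₂ : q.obj b = S := IsHomLift.codomain_eq q f φ
  subst h₁ h₂
  obtain rfl : f = q.map φ := by simpa using IsHomLift.fac q f φ
  exact IsHomLift.of_fac _ _ _ (IsHomLift.domain_eq p g (q.map φ))
    (IsHomLift.codomain_eq p g (q.map φ)) (IsHomLift.fac p g (q.map φ))

theorem liftY {V : C} {a b : 𝒲} (g : V ⟶ V) (φ : a ⟶ b) [(q ⋙ p).IsHomLift g φ] :
    p.IsHomLift g (q.map φ) :=
  IsHomLift.of_fac _ _ _ (IsHomLift.domain_eq (q ⋙ p) g φ) (IsHomLift.codomain_eq (q ⋙ p) g φ)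
    (IsHomLift.fac (q ⋙ p) g φ)

section Top

variable (y : 𝒴) {U : C} (hy : p.obj y = U) (hp : FibCat.IsFibGrpd p) (hq : FibCat.IsFibGrpd q)
  (R : Sieve y) (R' : Sieve U) (hR : ∀ b : Over y, R b.hom ↔ R' (p.map b.hom ≫ eqToHom hy))

include hy hp hq hR in
/-- descent over `C` gives descent over `𝒴` -/
theorem isStackFor_of_base (hW : Stk.IsStackFor R' (Wc q p)) (hY : Stk.IsPrestackFor R' (Yc p)) :
    Stk.IsStackFor R (Wy q) := by
  haveI : (Stk.resSieve R' (Wc q p)).IsEquivalence := hW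
  obtain ⟨_, _⟩ := hY
  let S := sect y hy hp
  let P := post y hy
  let c := cIso y hy hp
  have hlz : ∀ a : Over U, p.obj (S.obj a).left = a.left := lz_proj y hy hp
  have hpid : ∀ (a : Over U) {u v : 𝒲} (φ : u ⟶ v), q.IsHomLift (𝟙 (S.obj a).left) φ →
      (q ⋙ p).IsHomLift (𝟙 a.left) φ := by
    intro a u v φ _
    haveI : p.IsHomLift (𝟙 a.left) (𝟙 (S.obj a).left) := IsHomLift.id (hlz a)
    exact liftC (𝟙 (S.obj a).left) (𝟙 a.left) φ
  refine { faithful := ⟨fun {G₁ G₂} α α' h => ?_⟩, full := ⟨fun {G₁ G₂} β => ?_⟩, essSurj := ⟨fun D => ?_⟩ }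
  · have key : ∀ a : Over U, α.toNatTrans.app (S.obj a) = α'.toNatTrans.app (S.obj a) := by
      let mk : (G₁ ⟶ G₂) → (toC y hy hp G₁ ⟶ toC y hy hp G₂) := fun γ =>
        { toNatTrans := { app := fun a => γ.toNatTrans.app (S.obj a)
                          naturality := fun a b g => γ.toNatTrans.naturality (S.map g) }
          isHomLift' := fun a => hpid a _ (γ.isHomLift' (S.obj a)) }
      have h2 : mk α = mk α' := (Stk.resSieve R' (Wc q p)).map_injective (Fib.hom_ext' fun a =>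
        congrArg (fun t => BasedNatTrans.toNatTrans t |>.app
          ((sectR y hy hp R R' hR).obj a)) h)
      exact fun a => congrArg (fun t => BasedNatTrans.toNatTrans t |>.app a) h2
    refine Fib.hom_ext' fun b => ?_
    change Over y at b
    haveI : IsIso (G₁.map (c b).hom) := inferInstanceAs (IsIso (G₁.toFunctor.map (c b).hom))
    rw [← cancel_epi (G₁.map (c b).hom), α.toNatTrans.naturality, α'.toNatTrans.naturality, key]
  · let β₀ : (Stk.resSieve R' (Wc q p)).obj (toC y hy hp G₁) ⟶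
        (Stk.resSieve R' (Wc q p)).obj (toC y hy hp G₂) :=
      { toNatTrans := { app := fun a => β.toNatTrans.app ((sectR y hy hp R R' hR).obj a)
                        naturality := fun a b g => β.toNatTrans.naturality ((sectR y hy hp R R' hR).map g) }
        isHomLift' := fun a => hpid a.obj _ (β.isHomLift' ((sectR y hy hp R R' hR).obj a)) }
    obtain ⟨γ, hγ⟩ := (Stk.resSieve R' (Wc q p)).map_surjective β₀
    have hγ' : ∀ a : (Stk.sieveCat R').obj,
        γ.toNatTrans.app a.obj = β.toNatTrans.app ((sectR y hy hp R R' hR).obj a) := fun a =>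
      congrArg (fun t => BasedNatTrans.toNatTrans t |>.app a) hγ
    have hw₁ : ∀ a : Over U, q.obj (G₁.obj (S.obj a)) = (S.obj a).left := fun a => G₁.w_obj _
    have hw₂ : ∀ a : Over U, q.obj (G₂.obj (S.obj a)) = (S.obj a).left := fun a => G₂.w_obj _
    let ρ : BasedFunctor.comp (toC y hy hp G₁) (qb q p) ⟶ BasedFunctor.comp (toC y hy hp G₂) (qb q p) :=
      { toNatTrans :=
          { app := fun a => eqToHom ((hw₁ a).trans (hw₂ a).symm)
            naturality := fun a b g => by
              change q.map (G₁.map (S.map g)) ≫ eqToHom ((hw₁ b).trans (hw₂ b).symm) =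
                eqToHom ((hw₁ a).trans (hw₂ a).symm) ≫ q.map (G₂.map (S.map g))
              rw [show q.map (G₁.map (S.map g)) = _ from Fib.w_map G₁ (S.map g),
                show q.map (G₂.map (S.map g)) = _ from Fib.w_map G₂ (S.map g)]
              simp }
        isHomLift' := fun a => IsHomLift.of_fac _ _ _
          ((congrArg p.obj (hw₁ a)).trans (hlz a)) ((congrArg p.obj (hw₂ a)).trans (hlz a))
          (by change 𝟙 a.left = eqToHom _ ≫ p.map (eqToHom ((hw₁ a).trans (hw₂ a).symm)) ≫ eqToHom _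
              simp [eqToHom_map]) }
    have hρ : BasedCategory.whiskerRight γ (qb q p) = ρ := by
      refine (Stk.resSieve R' (Yc p)).map_injective (Fib.hom_ext' fun a => ?_)
      change q.map (γ.toNatTrans.app a.obj) = eqToHom ((hw₁ a.obj).trans (hw₂ a.obj).symm)
      rw [hγ']
      haveI : q.IsHomLift (𝟙 (S.obj a.obj).left) (β.toNatTrans.app ((sectR y hy hp R R' hR).obj a)) :=
        β.isHomLift' ((sectR y hy hp R R' hR).obj a)
      rw [IsHomLift.fac' q (𝟙 (S.obj a.obj).left) (β.toNatTrans.app ((sectR y hy hp R R' hR).obj a))]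
      simp
    have hlift : ∀ a : Over U, q.IsHomLift (𝟙 (S.obj a).left) (γ.toNatTrans.app a) := fun a =>
      lift_id_of_map _ (hw₁ a) (hw₂ a) (congrArg (fun t => BasedNatTrans.toNatTrans t |>.app a) hρ)
    let α : G₁ ⟶ G₂ :=
      { toNatTrans :=
          { app := fun b => G₁.map (c b).inv ≫ γ.toNatTrans.app (P.obj b) ≫ G₂.map (c b).hom
            naturality := fun b b' g => by
              change Over y at b b'
              have e1 : g ≫ (c b').inv = (c b).inv ≫ S.map (P.map g) := by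
                rw [Iso.comp_inv_eq, Category.assoc, cIso_nat, Iso.inv_hom_id_assoc]
              have e2 : G₂.map (S.map (P.map g)) ≫ G₂.map (c b').hom = G₂.map (c b).hom ≫ G₂.map g := by
                rw [← CategoryTheory.Functor.map_comp, ← CategoryTheory.Functor.map_comp, cIso_nat]
              have e3 : G₁.map (S.map (P.map g)) ≫ γ.toNatTrans.app (P.obj b') =
                  γ.toNatTrans.app (P.obj b) ≫ G₂.map (S.map (P.map g)) := γ.toNatTrans.naturality (P.map g)
              rw [← Category.assoc, ← CategoryTheory.Functor.map_comp, e1, CategoryTheory.Functor.map_comp, Category.assoc,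
                reassoc_of% e3, e2]
              simp }
        isHomLift' := fun b => by
          change Over y at b
          haveI := hlift (P.obj b)
          haveI : q.IsHomLift (c b).inv.left (G₁.map (c b).inv) := by
            haveI : (FibCat.overCat y).p.IsHomLift (c b).inv.left (c b).inv :=
              IsHomLift.map (Over.forget y) (c b).inv
            exact BasedFunctor.preserves_isHomLift G₁ _ _
          haveI : q.IsHomLift (c b).hom.left (G₂.map (c b).hom) := by
            haveI : (FibCat.overCat y).p.IsHomLift (c b).hom.left (c b).hom :=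
              IsHomLift.map (Over.forget y) (c b).hom
            exact BasedFunctor.preserves_isHomLift G₂ _ _
          have h : q.IsHomLift ((c b).inv.left ≫ 𝟙 (S.obj (P.obj b)).left ≫ (c b).hom.left)
              (G₁.map (c b).inv ≫ γ.toNatTrans.app (P.obj b) ≫ G₂.map (c b).hom) := inferInstance
          rw [Category.id_comp, ← Over.comp_left, Iso.inv_hom_id] at h
          exact h }
    refine ⟨α, Fib.hom_ext' fun b => ?_⟩
    change G₁.map (c b.obj).inv ≫ γ.toNatTrans.app (P.obj b.obj) ≫ G₂.map (c b.obj).hom = β.toNatTrans.app b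
    rw [show γ.toNatTrans.app (P.obj b.obj) = _ from hγ' ((postR y hy R R' hR).obj b)]
    let c' : (sectR y hy hp R R' hR).obj ((postR y hy R R' hR).obj b) ⟶ b :=
      ObjectProperty.homMk (c b.obj).hom
    have hn : G₁.map (c b.obj).hom ≫ β.toNatTrans.app b =
        β.toNatTrans.app ((sectR y hy hp R R' hR).obj ((postR y hy R R' hR).obj b)) ≫ G₂.map (c b.obj).hom :=
      β.toNatTrans.naturality c'
    rw [← hn, ← Category.assoc, ← CategoryTheory.Functor.map_comp, Iso.inv_hom_id, CategoryTheory.Functor.map_id, Category.id_comp]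
  · let S' := sectR y hy hp R R' hR
    let H := (Stk.resSieve R' (Wc q p)).objPreimage (toCR y hy hp R R' hR D)
    let θ := (Stk.resSieve R' (Wc q p)).objObjPreimageIso (toCR y hy hp R R' hR D)
    have hwD : ∀ b : (Stk.sieveCat R).obj, q.obj (D.obj b) = b.obj.left := fun b => D.w_obj b
    let ρ : BasedFunctor.comp (toCR y hy hp R R' hR D) (qb q p) ≅
        (Stk.resSieve R' (Yc p)).obj (Lb y hy hp) :=
      Fib.isoMk (fun a => eqToIso (hwD (S'.obj a)))
        (fun {a b} g => by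
          change q.map (D.map (S'.map g)) ≫ eqToHom (hwD (S'.obj b)) =
            eqToHom (hwD (S'.obj a)) ≫ (S.map g.hom).left
          rw [show q.map (D.map (S'.map g)) = _ from Fib.w_map D (S'.map g)]
          simp
          rfl)
        (fun a => IsHomLift.of_fac _ _ _ ((congrArg p.obj (hwD (S'.obj a))).trans (hlz a.obj)) (hlz a.obj)
          (by change 𝟙 a.obj.left = eqToHom _ ≫ p.map (eqToHom (hwD (S'.obj a))) ≫ eqToHom _
              simp [eqToHom_map]))
    let σ : (Stk.resSieve R' (Yc p)).obj (BasedFunctor.comp H (qb q p)) ≅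
        (Stk.resSieve R' (Yc p)).obj (Lb y hy hp) := Fib.isoWhiskerRight θ (qb q p) ≪≫ ρ
    let ψ := (Stk.resSieve R' (Yc p)).preimageIso σ
    have hψ : ∀ a : (Stk.sieveCat R').obj, (Fib.appIso ψ a.obj).hom =
        q.map (θ.hom.toNatTrans.app a) ≫ eqToHom (hwD (S'.obj a)) := fun a =>
      congrArg (fun t => BasedNatTrans.toNatTrans t |>.app a)
        ((Stk.resSieve R' (Yc p)).map_preimage σ.hom)
    obtain ⟨T, hT, j, hj, hjl⟩ := rectify hq (Over.forget y) (P ⋙ H.toFunctor)
      (fun b => Fib.appIso ψ (P.obj b) ≪≫ (Over.forget y).mapIso (c b))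
      (fun {b b'} g => by
        have e1 : q.map (H.map (P.map g)) ≫ (Fib.appIso ψ (P.obj b')).hom =
            (Fib.appIso ψ (P.obj b)).hom ≫ (S.map (P.map g)).left := ψ.hom.toNatTrans.naturality (P.map g)
        have e2 := congrArg CommaMorphism.left (cIso_nat y hy hp g)
        change q.map (H.map (P.map g)) ≫ (Fib.appIso ψ (P.obj b')).hom ≫ (c b').hom.left =
          ((Fib.appIso ψ (P.obj b)).hom ≫ (c b).hom.left) ≫ g.left
        rw [reassoc_of% e1, Category.assoc]
        exact congrArg _ e2)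
    let G : FibCat.overCat y ⥤ᵇ Wy q := ⟨T, hT⟩
    let P' := postR y hy R R' hR
    let c' : ∀ b : (Stk.sieveCat R).obj, S'.obj (P'.obj b) ≅ b := fun b =>
      ObjectProperty.isoMk _ (c b.obj)
    refine ⟨G, ⟨Fib.isoMk
      (fun b => j b.obj ≪≫ Fib.appIso θ (P'.obj b) ≪≫ D.toFunctor.mapIso (c' b))
      (fun {b b'} g => ?_) (fun b => ?_)⟩⟩
    · have e1 : T.map g.hom ≫ (j b'.obj).hom = (j b.obj).hom ≫ H.map (P.map g.hom) := hj g.hom
      have e2 : H.map (P.map g.hom) ≫ (Fib.appIso θ (P'.obj b')).hom =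
          (Fib.appIso θ (P'.obj b)).hom ≫ D.map (S'.map (P'.map g)) := θ.hom.toNatTrans.naturality (P'.map g)
      have e3 : S'.map (P'.map g) ≫ (c' b').hom = (c' b).hom ≫ g :=
        ObjectProperty.hom_ext _ (cIso_nat y hy hp g.hom)
      change T.map g.hom ≫ (j b'.obj).hom ≫ (Fib.appIso θ (P'.obj b')).hom ≫ D.map (c' b').hom =
        ((j b.obj).hom ≫ (Fib.appIso θ (P'.obj b)).hom ≫ D.map (c' b).hom) ≫ D.map g
      rw [reassoc_of% e1, reassoc_of% e2, ← CategoryTheory.Functor.map_comp, e3, CategoryTheory.Functor.map_comp]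
      simp
    · haveI := hjl b.obj
      haveI : q.IsHomLift (Fib.appIso ψ (P.obj b.obj)).hom (Fib.appIso θ (P'.obj b)).hom :=
        IsHomLift.of_fac _ _ _ rfl (hwD _) (by
          rw [show (Fib.appIso ψ (P.obj b.obj)).hom = _ from hψ (P'.obj b)]
          simp
          rfl)
      haveI : q.IsHomLift (c b.obj).hom.left (D.map (c' b).hom) := by
        haveI : (Stk.sieveCat R).p.IsHomLift (c b.obj).hom.left (c' b).hom :=
          IsHomLift.map (Stk.sieveCat R).p (c' b).hom
        exact BasedFunctor.preserves_isHomLift D _ _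
      have h : q.IsHomLift ((Fib.appIso ψ (P.obj b.obj) ≪≫ (Over.forget y).mapIso (c b.obj)).inv ≫
          (Fib.appIso ψ (P.obj b.obj)).hom ≫ (c b.obj).hom.left)
          ((j b.obj).hom ≫ (Fib.appIso θ (P'.obj b)).hom ≫ D.map (c' b).hom) := inferInstance
      simp only [Iso.trans_inv, CategoryTheory.Functor.mapIso_inv, Over.forget_map, Category.assoc,
        Iso.inv_hom_id_assoc, ← Over.comp_left, Iso.inv_hom_id] at h
      exact h

end Top

end StkInh

namespace StkInh

open Groth.Agent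

variable {C : Type u} [Category.{v} C] {𝒴 : Type u₂} [Category.{v₂} 𝒴] {p : 𝒴 ⥤ C}
  {𝒲 : Type u₃} [Category.{v₃} 𝒲] {q : 𝒲 ⥤ 𝒴}

/-- functors on the slice, projected, are isomorphic to the canonical one through the image of the identity -/
theorem exists_iso_Lb (hp : FibCat.IsFibGrpd p) {U : C} (K : FibCat.overCat U ⥤ᵇ Yc p) :
    ∃ (hy : p.obj (K.obj (Over.mk (𝟙 U))) = U), Nonempty (K ≅ Lb _ hy hp) := by
  have hy : p.obj (K.obj (Over.mk (𝟙 U))) = U := K.w_obj (Over.mk (𝟙 U))
  refine ⟨hy, ?_⟩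
  let L := Lb _ hy hp
  let φ₀ : L.obj (Over.mk (𝟙 U)) ⟶ K.obj (Over.mk (𝟙 U)) := lφ _ hy hp (Over.mk (𝟙 U))
  have hφ₀ : p.IsHomLift (𝟙 U) φ₀ := lφ_lift _ hy hp (Over.mk (𝟙 U))
  haveI : (Yc p).p.IsHomLift (𝟙 U) φ₀ := hφ₀
  obtain ⟨α, -⟩ := Fib.exists_natTrans_app_id (Fib.preservesStronglyCartesian K hp) φ₀
  obtain ⟨i, -⟩ := Groth.Agent.AlgStB.exists_iso_of_natTrans (𝒳 := Yc p) hp α
  exact ⟨i.symm⟩

section Top

variable (hp : FibCat.IsFibGrpd p) (hq : FibCat.IsFibGrpd q) {U : C} (R' : Sieve U)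

include hp hq in
/-- descent over `𝒴` gives descent over `C` -/
theorem isStackFor_comp (hY : Stk.IsStackFor R' (Yc p))
    (hW : ∀ (y : 𝒴) (hy : p.obj y = U) (R : Sieve y),
      (∀ b : Over y, R b.hom ↔ R' (p.map b.hom ≫ eqToHom hy)) → Stk.IsStackFor R (Wy q)) :
    Stk.IsStackFor R' (Wc q p) := by
  haveI : (Stk.resSieve R' (Yc p)).IsEquivalence := hY
  -- sieves on the objects over `U`
  have hsieve : ∀ (y : 𝒴) (hy : p.obj y = U), ∃ R : Sieve y,
      ∀ b : Over y, R b.hom ↔ R' (p.map b.hom ≫ eqToHom hy) := fun y hy =>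
    ⟨{ arrows := fun z φ => R' (p.map φ ≫ eqToHom hy)
       downward_closed := fun {z w f} hf g => by
         rw [CategoryTheory.Functor.map_comp, Category.assoc]; exact R'.downward_closed hf _ }, fun b => Iff.rfl⟩
  -- transport of pairs of functors
  have hpair : ∀ (H₁ H₂ : FibCat.overCat U ⥤ᵇ Wc q p)
      (η : BasedFunctor.comp H₁ (qb q p) ≅ BasedFunctor.comp H₂ (qb q p)),
      ∃ (y : 𝒴) (hy : p.obj y = U) (R : Sieve y) (_ : Stk.IsStackFor R (Wy q))
        (_ : ∀ b : Over y, R b.hom ↔ R' (p.map b.hom ≫ eqToHom hy))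
        (G₁ G₂ : FibCat.overCat y ⥤ᵇ Wy q)
        (j₁ : ∀ b : Over y, G₁.obj b ≅ H₁.obj ((post y hy).obj b))
        (j₂ : ∀ b : Over y, G₂.obj b ≅ H₂.obj ((post y hy).obj b)),
        (∀ {a b : Over y} (g : a ⟶ b), G₁.map g ≫ (j₁ b).hom = (j₁ a).hom ≫ H₁.map ((post y hy).map g)) ∧
        (∀ {a b : Over y} (g : a ⟶ b), G₂.map g ≫ (j₂ b).hom = (j₂ a).hom ≫ H₂.map ((post y hy).map g)) ∧
        (∀ b : Over y, p.IsHomLift (𝟙 (p.obj b.left)) (q.map (j₁ b).hom)) ∧
        (∀ b : Over y, p.IsHomLift (𝟙 (p.obj b.left)) (q.map (j₂ b).hom)) ∧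
        (∀ (b : Over y) (u : H₁.obj ((post y hy).obj b) ⟶ H₂.obj ((post y hy).obj b)),
          q.map u = (Fib.appIso η ((post y hy).obj b)).hom →
            q.IsHomLift (𝟙 b.left) ((j₁ b).hom ≫ u ≫ (j₂ b).inv)) := by
    intro H₁ H₂ η
    obtain ⟨hy, ⟨ψ⟩⟩ := exists_iso_Lb hp (BasedFunctor.comp H₁ (qb q p))
    generalize (BasedFunctor.comp H₁ (qb q p)).obj (Over.mk (𝟙 U)) = y at hy ψ
    obtain ⟨R, hR⟩ := hsieve y hy
    let P := post y hy
    let c := cIso y hy hp
    have mk : ∀ (H : FibCat.overCat U ⥤ᵇ Wc q p) (ψ : BasedFunctor.comp H (qb q p) ≅ Lb y hy hp),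
        ∃ (G : FibCat.overCat y ⥤ᵇ Wy q) (j : ∀ b : Over y, G.obj b ≅ H.obj (P.obj b)),
          (∀ {a b : Over y} (g : a ⟶ b), G.map g ≫ (j b).hom = (j a).hom ≫ H.map (P.map g)) ∧
          (∀ b : Over y, q.IsHomLift ((Fib.appIso ψ (P.obj b)) ≪≫ (Over.forget y).mapIso (c b)).inv (j b).hom) := by
      intro H ψ
      obtain ⟨T, hT, j, hj, hjl⟩ := rectify hq (Over.forget y) (P ⋙ H.toFunctor)
        (fun b => Fib.appIso ψ (P.obj b) ≪≫ (Over.forget y).mapIso (c b))
        (fun {b b'} g => by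
          have e1 : q.map (H.map (P.map g)) ≫ (Fib.appIso ψ (P.obj b')).hom =
              (Fib.appIso ψ (P.obj b)).hom ≫ ((sect y hy hp).map (P.map g)).left :=
            ψ.hom.toNatTrans.naturality (P.map g)
          have e2 := congrArg CommaMorphism.left (cIso_nat y hy hp g)
          change q.map (H.map (P.map g)) ≫ (Fib.appIso ψ (P.obj b')).hom ≫ (c b').hom.left =
            ((Fib.appIso ψ (P.obj b)).hom ≫ (c b).hom.left) ≫ g.left
          rw [reassoc_of% e1, Category.assoc]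
          exact congrArg _ e2)
      exact ⟨⟨T, hT⟩, j, hj, hjl⟩
    obtain ⟨G₁, j₁, n₁, l₁⟩ := mk H₁ ψ
    obtain ⟨G₂, j₂, n₂, l₂⟩ := mk H₂ (η.symm ≪≫ ψ)
    have hpj : ∀ (H : FibCat.overCat U ⥤ᵇ Wc q p) (ψ : BasedFunctor.comp H (qb q p) ≅ Lb y hy hp)
        (b : Over y) {x : 𝒲} (j : x ⟶ H.obj (P.obj b))
        (_ : q.IsHomLift ((Fib.appIso ψ (P.obj b)) ≪≫ (Over.forget y).mapIso (c b)).inv j),
        p.IsHomLift (𝟙 (p.obj b.left)) (q.map j) := by
      intro H ψ b x j hl
      haveI : p.IsHomLift (𝟙 (p.obj b.left)) (Fib.appIso ψ (P.obj b)).hom := Fib.appIso_isHomLift ψ (P.obj b)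
      haveI : p.IsHomLift (𝟙 (p.obj b.left)) ((Over.forget y).mapIso (c b)).hom := cIso_lift y hy hp b
      haveI : p.IsHomLift (𝟙 (p.obj b.left))
          ((Fib.appIso ψ (P.obj b)) ≪≫ (Over.forget y).mapIso (c b)).hom := by
        rw [Iso.trans_hom]; infer_instance
      haveI := liftC (p := p) (q := q) ((Fib.appIso ψ (P.obj b)) ≪≫ (Over.forget y).mapIso (c b)).inv (𝟙 (p.obj b.left)) j
      exact liftY (p := p) (q := q) (𝟙 (p.obj b.left)) j
    refine ⟨y, hy, R, hW y hy R hR, hR, G₁, G₂, j₁, j₂, n₁, n₂,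
      fun b => hpj H₁ _ b _ (l₁ b), fun b => hpj H₂ _ b _ (l₂ b), fun b u hu => ?_⟩
    haveI := l₁ b
    haveI := l₂ b
    haveI : q.IsHomLift (Fib.appIso η (P.obj b)).hom u := by
      rw [← hu]; exact IsHomLift.map q u
    haveI : q.IsHomLift ((Fib.appIso (η.symm ≪≫ ψ) (P.obj b)) ≪≫ (Over.forget y).mapIso (c b)).hom (j₂ b).inv := by
      have hh := l₂ b
      exact @IsHomLift.inv_lift_inv _ _ _ _ q _ _ _ _ ((Fib.appIso (η.symm ≪≫ ψ) (P.obj b)) ≪≫
        (Over.forget y).mapIso (c b)).symm (j₂ b) hh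
    have h : q.IsHomLift
        (((Fib.appIso ψ (P.obj b)) ≪≫ (Over.forget y).mapIso (c b)).inv ≫ (Fib.appIso η (P.obj b)).hom ≫
          ((Fib.appIso (η.symm ≪≫ ψ) (P.obj b)) ≪≫ (Over.forget y).mapIso (c b)).hom)
        ((j₁ b).hom ≫ u ≫ (j₂ b).inv) := inferInstance
    suffices heq : 𝟙 b.left = _ by rw [heq]; exact h
    change 𝟙 b.left = (((Over.forget y).mapIso (c b)).inv ≫ (Fib.appIso ψ (P.obj b)).inv) ≫
      (Fib.appIso η (P.obj b)).hom ≫
        ((Fib.appIso η (P.obj b)).inv ≫ (Fib.appIso ψ (P.obj b)).hom) ≫ ((Over.forget y).mapIso (c b)).hom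
    simp
  refine { faithful := ⟨fun {H₁ H₂} γ γ' h => ?_⟩, full := ⟨fun {H₁ H₂} β => ?_⟩, essSurj := ⟨fun D => ?_⟩ }
  · have hq' : BasedCategory.whiskerRight γ (qb q p) = BasedCategory.whiskerRight γ' (qb q p) :=
      (Stk.resSieve R' (Yc p)).map_injective (Fib.hom_ext' fun a =>
        (congrArg q.map (congrArg (fun t => BasedNatTrans.toNatTrans t |>.app a) h :) :))
    obtain ⟨η, hη⟩ := Groth.Agent.AlgStB.exists_iso_of_natTrans (𝒳 := Yc p) hp
      (BasedCategory.whiskerRight γ (qb q p))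
    obtain ⟨y, hy, R, hWR, hR, G₁, G₂, j₁, j₂, n₁, n₂, -, -, hl⟩ := hpair H₁ H₂ η
    haveI : (Stk.resSieve R (Wy q)).IsEquivalence := hWR
    have hγq : ∀ a : Over U, q.map (γ.toNatTrans.app a) = (Fib.appIso η a).hom := fun a =>
      (congrArg (fun t => BasedNatTrans.toNatTrans t |>.app a) hη).symm
    have hγq' : ∀ a : Over U, q.map (γ'.toNatTrans.app a) = (Fib.appIso η a).hom := fun a =>
      (congrArg (fun t => BasedNatTrans.toNatTrans t |>.app a) hq').symm.trans (hγq a)
    let P := post y hy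
    have mk : ∀ δ : H₁ ⟶ H₂, (∀ a : Over U, q.map (δ.toNatTrans.app a) = (Fib.appIso η a).hom) →
        ∃ α : G₁ ⟶ G₂, ∀ b, α.toNatTrans.app b = (j₁ b).hom ≫ δ.toNatTrans.app (P.obj b) ≫ (j₂ b).inv := by
      intro δ hδ
      refine ⟨{ toNatTrans :=
                  { app := fun b => (j₁ b).hom ≫ δ.toNatTrans.app (P.obj b) ≫ (j₂ b).inv
                    naturality := fun a b g => ?_ }
                isHomLift' := fun b => hl b _ (hδ _) }, fun b => rfl⟩
      change G₁.map g ≫ (j₁ b).hom ≫ δ.toNatTrans.app (P.obj b) ≫ (j₂ b).inv =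
        ((j₁ a).hom ≫ δ.toNatTrans.app (P.obj a) ≫ (j₂ a).inv) ≫ G₂.map g
      have e3 : H₁.map (P.map g) ≫ δ.toNatTrans.app (P.obj b) = δ.toNatTrans.app (P.obj a) ≫ H₂.map (P.map g) :=
        δ.toNatTrans.naturality (P.map g)
      rw [reassoc_of% (n₁ g), reassoc_of% e3]
      simp only [Category.assoc]
      congr 2
      rw [Iso.eq_inv_comp, ← Category.assoc, ← n₂ g, Category.assoc, Iso.hom_inv_id, Category.comp_id]
    obtain ⟨α, hα⟩ := mk γ hγq
    obtain ⟨α', hα'⟩ := mk γ' hγq'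
    have hαα : α = α' := (Stk.resSieve R (Wy q)).map_injective (Fib.hom_ext' fun b => by
      change α.toNatTrans.app b.obj = α'.toNatTrans.app b.obj
      rw [hα, hα']
      congr 2
      exact congrArg (fun t => BasedNatTrans.toNatTrans t |>.app ((postR y hy R R' hR).obj b)) h)
    refine Fib.hom_ext' fun a => ?_
    change Over U at a
    let e := eIso y hy hp a
    have hP : γ.toNatTrans.app (P.obj ((sect y hy hp).obj a)) = γ'.toNatTrans.app (P.obj ((sect y hy hp).obj a)) := by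
      have h1 := (hα ((sect y hy hp).obj a)).symm.trans ((by rw [hαα] :
        α.toNatTrans.app ((sect y hy hp).obj a) = α'.toNatTrans.app ((sect y hy hp).obj a)).trans
          (hα' ((sect y hy hp).obj a)))
      simpa using h1
    haveI : IsIso (H₁.map e.hom) := inferInstanceAs (IsIso (H₁.toFunctor.map e.hom))
    rw [← cancel_epi (H₁.map e.hom), γ.toNatTrans.naturality, γ'.toNatTrans.naturality]
    exact congrArg (· ≫ H₂.map e.hom) hP
  · obtain ⟨η₀, hη₀⟩ := (Stk.resSieve R' (Yc p)).map_surjective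
      (X := BasedFunctor.comp H₁ (qb q p)) (Y := BasedFunctor.comp H₂ (qb q p))
      (BasedCategory.whiskerRight β (qb q p))
    obtain ⟨η, hη⟩ := Groth.Agent.AlgStB.exists_iso_of_natTrans (𝒳 := Yc p) hp η₀
    have hβq : ∀ a : (Stk.sieveCat R').obj, q.map (β.toNatTrans.app a) = (Fib.appIso η a.obj).hom := by
      intro a
      have h1 : η₀.toNatTrans.app a.obj = q.map (β.toNatTrans.app a) :=
        congrArg (fun t => BasedNatTrans.toNatTrans t |>.app a) hη₀
      rw [← h1, ← hη]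
      rfl
    obtain ⟨y, hy, R, hWR, hR, G₁, G₂, j₁, j₂, n₁, n₂, l₁, l₂, hl⟩ := hpair H₁ H₂ η
    haveI : (Stk.resSieve R (Wy q)).IsEquivalence := hWR
    let P := post y hy
    let P' := postR y hy R R' hR
    let β' : (Stk.resSieve R (Wy q)).obj G₁ ⟶ (Stk.resSieve R (Wy q)).obj G₂ :=
      { toNatTrans :=
          { app := fun b => (j₁ b.obj).hom ≫ β.toNatTrans.app (P'.obj b) ≫ (j₂ b.obj).inv
            naturality := fun a b g => by
              change G₁.map g.hom ≫ (j₁ b.obj).hom ≫ β.toNatTrans.app (P'.obj b) ≫ (j₂ b.obj).inv =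
                ((j₁ a.obj).hom ≫ β.toNatTrans.app (P'.obj a) ≫ (j₂ a.obj).inv) ≫ G₂.map g.hom
              have e3 : H₁.map (P.map g.hom) ≫ β.toNatTrans.app (P'.obj b) =
                  β.toNatTrans.app (P'.obj a) ≫ H₂.map (P.map g.hom) := β.toNatTrans.naturality (P'.map g)
              rw [reassoc_of% (n₁ g.hom), reassoc_of% e3]
              simp only [Category.assoc]
              congr 2
              rw [Iso.eq_inv_comp, ← Category.assoc, ← n₂ g.hom, Category.assoc, Iso.hom_inv_id,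
                Category.comp_id] }
        isHomLift' := fun b => hl b.obj _ (hβq (P'.obj b)) }
    obtain ⟨α, hα⟩ := (Stk.resSieve R (Wy q)).map_surjective β'
    let S := sect y hy hp
    let e := eIso y hy hp
    let γ : H₁ ⟶ H₂ :=
      { toNatTrans :=
          { app := fun a => H₁.map (e a).inv ≫ ((j₁ (S.obj a)).inv ≫ α.toNatTrans.app (S.obj a) ≫
              (j₂ (S.obj a)).hom) ≫ H₂.map (e a).hom
            naturality := fun a a' g => by
              change Over U at a a'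
              have e1 : g ≫ (e a').inv = (e a).inv ≫ P.map (S.map g) := by
                rw [Iso.comp_inv_eq, Category.assoc, eIso_nat, Iso.inv_hom_id_assoc]
              have e2 : H₂.map (P.map (S.map g)) ≫ H₂.map (e a').hom = H₂.map (e a).hom ≫ H₂.map g := by
                rw [← CategoryTheory.Functor.map_comp, ← CategoryTheory.Functor.map_comp, eIso_nat]
              have e4 : H₁.map (P.map (S.map g)) ≫ (j₁ (S.obj a')).inv = (j₁ (S.obj a)).inv ≫ G₁.map (S.map g) := by
                rw [Iso.eq_inv_comp, ← Category.assoc, ← n₁, Category.assoc, Iso.hom_inv_id, Category.comp_id]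
              have e5 : G₁.map (S.map g) ≫ α.toNatTrans.app (S.obj a') =
                  α.toNatTrans.app (S.obj a) ≫ G₂.map (S.map g) := α.toNatTrans.naturality (S.map g)
              rw [← Category.assoc, ← CategoryTheory.Functor.map_comp, e1, CategoryTheory.Functor.map_comp]
              simp only [Category.assoc]
              rw [reassoc_of% e4, reassoc_of% e5, reassoc_of% (n₂ (S.map g)), e2] }
        isHomLift' := fun a => by
          change Over U at a
          have hz : p.obj (S.obj a).left = a.left := lz_proj y hy hp a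
          haveI : (q ⋙ p).IsHomLift (𝟙 a.left) (j₁ (S.obj a)).hom := by
            haveI := l₁ (S.obj a)
            haveI : p.IsHomLift (𝟙 a.left) (q.map (j₁ (S.obj a)).hom) := hz ▸ l₁ (S.obj a)
            exact liftC (q.map (j₁ (S.obj a)).hom) (𝟙 a.left) (j₁ (S.obj a)).hom
          haveI : (q ⋙ p).IsHomLift (𝟙 a.left) (j₂ (S.obj a)).hom := by
            haveI : p.IsHomLift (𝟙 a.left) (q.map (j₂ (S.obj a)).hom) := hz ▸ l₂ (S.obj a)
            exact liftC (q.map (j₂ (S.obj a)).hom) (𝟙 a.left) (j₂ (S.obj a)).hom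
          haveI : (q ⋙ p).IsHomLift (𝟙 a.left) (α.toNatTrans.app (S.obj a)) := by
            haveI : q.IsHomLift (𝟙 (S.obj a).left) (α.toNatTrans.app (S.obj a)) := α.isHomLift' (S.obj a)
            haveI : p.IsHomLift (𝟙 a.left) (𝟙 (S.obj a).left) := IsHomLift.id hz
            exact liftC (𝟙 (S.obj a).left) (𝟙 a.left) _
          haveI := eIso_lift y hy hp a
          haveI : (FibCat.overCat U).p.IsHomLift (𝟙 a.left) (e a).inv := inferInstanceAs
            ((FibCat.overCat U).p.IsHomLift (𝟙 a.left) (eIso y hy hp a).inv)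
          haveI : (q ⋙ p).IsHomLift (𝟙 a.left) (H₁.map (e a).inv) :=
            BasedFunctor.preserves_isHomLift H₁ _ _
          haveI : (q ⋙ p).IsHomLift (𝟙 a.left) (H₂.map (e a).hom) := by
            haveI : (FibCat.overCat U).p.IsHomLift (𝟙 a.left) (e a).hom := eIso_lift y hy hp a
            exact BasedFunctor.preserves_isHomLift H₂ _ _
          exact inferInstanceAs ((q ⋙ p).IsHomLift (𝟙 a.left) _) }
    refine ⟨γ, Fib.hom_ext' fun a => ?_⟩
    let b : (Stk.sieveCat R).obj := (sectR y hy hp R R' hR).obj a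
    have hb : α.toNatTrans.app (S.obj a.obj) = (j₁ (S.obj a.obj)).hom ≫ β.toNatTrans.app (P'.obj b) ≫
        (j₂ (S.obj a.obj)).inv := congrArg (fun t => BasedNatTrans.toNatTrans t |>.app b) hα
    let e' : P'.obj b ⟶ a := ObjectProperty.homMk (e a.obj).hom
    have hn : H₁.map (e a.obj).hom ≫ β.toNatTrans.app a = β.toNatTrans.app (P'.obj b) ≫ H₂.map (e a.obj).hom :=
      β.toNatTrans.naturality e'
    change H₁.map (e a.obj).inv ≫ ((j₁ (S.obj a.obj)).inv ≫ α.toNatTrans.app (S.obj a.obj) ≫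
      (j₂ (S.obj a.obj)).hom) ≫ H₂.map (e a.obj).hom = β.toNatTrans.app a
    rw [hb]
    simp only [Category.assoc, Iso.inv_hom_id_assoc]
    rw [← hn, ← Category.assoc, ← CategoryTheory.Functor.map_comp, Iso.inv_hom_id]
    erw [CategoryTheory.Functor.map_id, Category.id_comp]
  · let K := (Stk.resSieve R' (Yc p)).objPreimage (BasedFunctor.comp D (qb q p))
    let θ := (Stk.resSieve R' (Yc p)).objObjPreimageIso (BasedFunctor.comp D (qb q p))
    obtain ⟨hy, ⟨ψ⟩⟩ := exists_iso_Lb hp K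
    generalize K.obj (Over.mk (𝟙 U)) = y at hy ψ
    obtain ⟨R, hR⟩ := hsieve y hy
    haveI : (Stk.resSieve R (Wy q)).IsEquivalence := hW y hy R hR
    let P := post y hy
    let P' := postR y hy R R' hR
    let c := cIso y hy hp
    obtain ⟨T, hT, j, hj, hjl⟩ := rectify hq (ObjectProperty.ι _ ⋙ Over.forget y) (P' ⋙ D.toFunctor)
      (fun b => (Fib.appIso θ (P'.obj b)).symm ≪≫ Fib.appIso ψ (P.obj b.obj) ≪≫
        (Over.forget y).mapIso (c b.obj))
      (fun {b b'} g => by
        have e0 : q.map (D.map (P'.map g)) ≫ (Fib.appIso θ (P'.obj b')).inv =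
            (Fib.appIso θ (P'.obj b)).inv ≫ K.map (P.map g.hom) := θ.inv.toNatTrans.naturality (P'.map g)
        have e1 : K.map (P.map g.hom) ≫ (Fib.appIso ψ (P.obj b'.obj)).hom =
            (Fib.appIso ψ (P.obj b.obj)).hom ≫ ((sect y hy hp).map (P.map g.hom)).left :=
          ψ.hom.toNatTrans.naturality (P.map g.hom)
        have e2 := congrArg CommaMorphism.left (cIso_nat y hy hp g.hom)
        change q.map (D.map (P'.map g)) ≫ (Fib.appIso θ (P'.obj b')).inv ≫
            (Fib.appIso ψ (P.obj b'.obj)).hom ≫ (c b'.obj).hom.left =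
          ((Fib.appIso θ (P'.obj b)).inv ≫ (Fib.appIso ψ (P.obj b.obj)).hom ≫ (c b.obj).hom.left) ≫ g.hom.left
        rw [reassoc_of% e0, reassoc_of% e1]
        simp only [Category.assoc]
        exact congrArg _ (congrArg _ e2))
    let D' : Stk.sieveCat R ⥤ᵇ Wy q := ⟨T, hT⟩
    let G := (Stk.resSieve R (Wy q)).objPreimage D'
    let θ' := (Stk.resSieve R (Wy q)).objObjPreimageIso D'
    let S' := sectR y hy hp R R' hR
    let e := eIso y hy hp
    let e' : ∀ a : (Stk.sieveCat R').obj, P'.obj (S'.obj a) ≅ a := fun a =>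
      ObjectProperty.isoMk _ (e a.obj)
    refine ⟨toC y hy hp G, ⟨Fib.isoMk
      (fun a => Fib.appIso θ' (S'.obj a) ≪≫ j (S'.obj a) ≪≫ D.toFunctor.mapIso (e' a))
      (fun {a a'} g => ?_) (fun a => ?_)⟩⟩
    · have e1 : G.map ((sect y hy hp).map g.hom) ≫ (Fib.appIso θ' (S'.obj a')).hom =
          (Fib.appIso θ' (S'.obj a)).hom ≫ T.map (S'.map g) := θ'.hom.toNatTrans.naturality (S'.map g)
      have e2 : P'.map (S'.map g) ≫ (e' a').hom = (e' a).hom ≫ g :=
        ObjectProperty.hom_ext _ (eIso_nat y hy hp g.hom)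
      change G.map ((sect y hy hp).map g.hom) ≫ (Fib.appIso θ' (S'.obj a')).hom ≫ (j (S'.obj a')).hom ≫
          D.map (e' a').hom =
        ((Fib.appIso θ' (S'.obj a)).hom ≫ (j (S'.obj a)).hom ≫ D.map (e' a).hom) ≫ D.map g
      rw [reassoc_of% e1, reassoc_of% (hj (S'.map g))]
      simp only [Category.assoc, CategoryTheory.Functor.comp_map, ← CategoryTheory.Functor.map_comp, e2]
    · have hz : p.obj (S'.obj a).obj.left = a.obj.left := lz_proj y hy hp a.obj
      haveI : q.IsHomLift (𝟙 (S'.obj a).obj.left) (Fib.appIso θ' (S'.obj a)).hom := Fib.appIso_isHomLift θ' (S'.obj a)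
      haveI : p.IsHomLift (𝟙 a.obj.left) (𝟙 (S'.obj a).obj.left) := IsHomLift.id hz
      haveI := liftC (p := p) (q := q) (𝟙 (S'.obj a).obj.left) (𝟙 a.obj.left) (Fib.appIso θ' (S'.obj a)).hom
      haveI := hjl (S'.obj a)
      haveI : (q ⋙ p).IsHomLift (𝟙 a.obj.left) (j (S'.obj a)).hom := by
        haveI : p.IsHomLift (𝟙 a.obj.left) (Fib.appIso θ (P'.obj (S'.obj a))).hom :=
          hz ▸ Fib.appIso_isHomLift θ (P'.obj (S'.obj a))
        haveI : p.IsHomLift (𝟙 a.obj.left) (Fib.appIso ψ (P.obj (S'.obj a).obj)).hom :=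
          hz ▸ Fib.appIso_isHomLift ψ (P.obj (S'.obj a).obj)
        haveI : p.IsHomLift (𝟙 a.obj.left) ((Over.forget y).mapIso (c (S'.obj a).obj)).hom :=
          hz ▸ cIso_lift y hy hp (S'.obj a).obj
        haveI : p.IsHomLift (𝟙 a.obj.left) ((Fib.appIso θ (P'.obj (S'.obj a))).symm ≪≫
            Fib.appIso ψ (P.obj (S'.obj a).obj) ≪≫ (Over.forget y).mapIso (c (S'.obj a).obj)).hom := by
          rw [Iso.trans_hom, Iso.trans_hom, Iso.symm_hom]; infer_instance
        exact liftC ((Fib.appIso θ (P'.obj (S'.obj a))).symm ≪≫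
          Fib.appIso ψ (P.obj (S'.obj a).obj) ≪≫ (Over.forget y).mapIso (c (S'.obj a).obj)).inv
          (𝟙 a.obj.left) (j (S'.obj a)).hom
      haveI : (Stk.sieveCat R').p.IsHomLift (𝟙 a.obj.left) (e' a).hom :=
        IsHomLift.of_fac _ _ _ hz rfl (by
          change 𝟙 a.obj.left = eqToHom _ ≫ eqToHom (lz_proj y hy hp a.obj) ≫ eqToHom _
          simp)
      haveI : (q ⋙ p).IsHomLift (𝟙 a.obj.left) (D.map (e' a).hom) :=
        BasedFunctor.preserves_isHomLift D _ _
      exact inferInstanceAs ((q ⋙ p).IsHomLift (𝟙 a.obj.left)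
        ((Fib.appIso θ' (S'.obj a)).hom ≫ (j (S'.obj a)).hom ≫ D.map (e' a).hom))

end Top

/-- a stack over a stack is a stack, for the inherited topology -/
theorem isStack_of_base (J : GrothendieckTopology C) (hp : FibCat.IsFibGrpd p) (hq : FibCat.IsFibGrpd q)
    (hY : ∀ ⦃U : C⦄ (R : Sieve U), R ∈ J U → Stk.IsPrestackFor R (Yc p))
    (hW : ∀ ⦃U : C⦄ (R : Sieve U), R ∈ J U → Stk.IsStackFor R (Wc q p)) :
    Stk.IsStack (p.restrictedTopology J) (Wy q) := by
  refine ⟨hq, fun y R hR => ?_⟩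
  rw [mem_restrictedTopology_iff hp] at hR
  refine isStackFor_of_base y rfl hp hq R (R.functorPushforward p) (fun b => ?_) (hW _ hR) (hY _ hR)
  rw [eqToHom_refl, Category.comp_id]
  exact (push_map_mem hp R b.hom).symm

/-- a stack over a stack is a stack over the base -/
theorem isStack_comp (J : GrothendieckTopology C) (hY : Stk.IsStack J (Yc p))
    (hW : Stk.IsStack (p.restrictedTopology J) (Wy q)) : Stk.IsStack J (Wc q p) := by
  refine ⟨Fib.isFibGrpd_comp (F := q) (G := p) hW.1 hY.1, fun U R' hR' => ?_⟩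
  have hp : FibCat.IsFibGrpd p := hY.1
  refine isStackFor_comp hp hW.1 R' (hY.2 R' hR') fun y hy R hR => hW.2 R ?_
  rw [mem_restrictedTopology_iff hp]
  subst hy
  refine J.superset_covering (fun V h hh => ?_) hR'
  obtain ⟨z, φ, hφ⟩ := exists_lift hp (rfl : p.obj y = _) h
  refine (mem_push_iff hp R h).mpr ⟨z, φ, hφ, (hR (Over.mk φ)).mpr ?_⟩
  rw [eqToHom_refl, Category.comp_id]
  change R' (p.map φ)
  haveI := hφ
  obtain rfl : p.obj z = V := IsHomLift.domain_eq p h φ
  obtain rfl : h = p.map φ := by simpa using IsHomLift.fac p h φ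
  exact hh

end StkInh
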